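import Groth.Prelude.Def_W4c5nonratstablectREq
import Groth.Agent.PnConst7.Point
import Groth.Agent.H98P1.Retract

/-!
Two points of an open subscheme of projective space over a field are joined by a line.
-/

set_option autoImplicit false
universe u

open CategoryTheory CategoryTheory.Limits AlgebraicGeometry HomogeneousLocalization

set_option backward.isDefEq.respectTransparency false

noncomputable section

namespace Groth.Agent.REqLine99

open Approx60.ProjCharts

abbrev Z₀ : Type u := ULift.{u} ℤ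

variable {n : ℕ}

/-- The base ring map. -/
abbrev cst (R : Type u) [CommRing R] : Z₀ →+* R :=
  (Int.castRingHom R).comp (ULift.ringEquiv.toRingHom : Z₀ →+* ℤ)

theorem hom_eq {R : Type u} [CommRing R] (f : Z₀ →+* R) : f = cst R := by
  ext ⟨z⟩
  show f ⟨z⟩ = (z : R)
  rw [show (⟨z⟩ : Z₀) = (z : Z₀) from rfl, map_intCast]

/-- The evaluation at coordinates. -/
abbrev evalAt {R : Type u} [CommRing R] (a : Fin (n + 1) → R) : MvPolynomial (Fin (n + 1)) Z₀ →+* R :=
  MvPolynomial.eval₂Hom (cst R) a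

theorem exists_coords (K : Type u) [Field K] (P : Spec (CommRingCat.of K) ⟶ CohB1.ProjSpace n Z₀) :
    ∃ (a : Fin (n + 1) → K) (i : Fin (n + 1)) (_ : a i ≠ 0) (hu : IsUnit (evalAt a (MvPolynomial.X i))),
      P = PnConst7.point (evalAt a) (MvPolynomial.X i) (X₁ Z₀ n i).2 one_pos hu := by
  obtain ⟨j, hj⟩ := exists_mem_U Z₀ n (P.base (IsLocalRing.closedPoint K))
  let aw := Proj.awayι (CohB1.polyGrading n Z₀) (MvPolynomial.X j) (X₁ Z₀ n j).2 one_pos
  have hr : Set.range P.base ⊆ Set.range aw.base := by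
    rintro _ ⟨z, rfl⟩
    haveI : Subsingleton ↥(Spec (CommRingCat.of K)) := inferInstanceAs (Subsingleton (PrimeSpectrum K))
    rw [Subsingleton.elim (α := ↥(Spec (CommRingCat.of K))) z (IsLocalRing.closedPoint K)]
    have : P.base (IsLocalRing.closedPoint K) ∈ aw.opensRange := by rw [Proj.opensRange_awayι]; exact hj
    exact this
  obtain ⟨ψ, hψ⟩ : ∃ ψ, Spec.map ψ = IsOpenImmersion.lift aw P hr := ⟨_, Spec.map_preimage _⟩
  let q := MvPolynomial.eval₂Hom ((fromZeroRingHom (CohB1.polyGrading n Z₀) _).comp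
    (algebraMap Z₀ (CohB1.polyGrading n Z₀ 0))) (fun i => frac Z₀ n j (X₁ Z₀ n i))
  have h1 : q (MvPolynomial.X j) = 1 := by
    rw [MvPolynomial.eval₂Hom_X']
    apply HomogeneousLocalization.val_injective
    show (HomogeneousLocalization.mk _).val = _
    rw [HomogeneousLocalization.val_mk, HomogeneousLocalization.val_one]
    exact Localization.mk_self (⟨(X₁ Z₀ n j).1, 1, pow_one _⟩ : Submonoid.powers _)
  have hu : IsUnit (q (MvPolynomial.X j)) := h1 ▸ isUnit_one
  let a : Fin (n + 1) → K := fun i => ψ.hom (frac Z₀ n j (X₁ Z₀ n i))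
  have he : ψ.hom.comp q = evalAt a := by
    refine MvPolynomial.ringHom_ext (fun r => ?_) fun i => ?_
    · rw [RingHom.comp_apply, MvPolynomial.eval₂Hom_C, MvPolynomial.eval₂Hom_C, ← RingHom.comp_apply, hom_eq (ψ.hom.comp _)]
    · rw [RingHom.comp_apply, MvPolynomial.eval₂Hom_X', MvPolynomial.eval₂Hom_X']
  have ha : evalAt a (MvPolynomial.X j) = 1 := by rw [← he, RingHom.comp_apply, h1, map_one]
  refine ⟨a, j, ?_, ha ▸ isUnit_one, ?_⟩
  · rw [MvPolynomial.eval₂Hom_X'] at ha; rw [ha]; exact one_ne_zero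
  · rw [← PnConst7.point_congr he _ _ _ (by rw [RingHom.comp_apply]; exact hu.map ψ.hom), ← PnConst7.specMap_point ψ.hom q _ _ _ hu, show PnConst7.point q (MvPolynomial.X j) (X₁ Z₀ n j).2 one_pos hu = aw from PnConst7.point_taut j hu]
    exact (IsOpenImmersion.lift_fac aw P hr).symm.trans (congrArg (· ≫ aw) hψ.symm)

/-- Rescaling coordinates does not change the point. -/
theorem point_smul {R : Type u} [CommRing R] (a : Fin (n + 1) → R) (c : R) (hc : IsUnit c)
    (t : MvPolynomial (Fin (n + 1)) Z₀) {d : ℕ}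
    (ht : t ∈ CohB1.polyGrading n Z₀ d) (hd : 0 < d) (hu : IsUnit (evalAt a t))
    (hu' : IsUnit (evalAt (fun i => c * a i) t)) :
    PnConst7.point (evalAt (fun i => c * a i)) t ht hd hu' = PnConst7.point (evalAt a) t ht hd hu := by
  unfold PnConst7.point
  rw [awayEval_smul (cst R) c hc a t hu' hu]

theorem exists_line (K : Type u) [Field K] (P Q : Spec (CommRingCat.of K) ⟶ CohB1.ProjSpace n Z₀) :
    ∃ L : Spec (CommRingCat.of (Polynomial K)) ⟶ CohB1.ProjSpace n Z₀,
      H98P1.linePt K 0 ≫ L = P ∧ H98P1.linePt K 1 ≫ L = Q := by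
  obtain ⟨a, i, hai, hua, rfl⟩ := exists_coords K P
  obtain ⟨b, j, hbj, hub, rfl⟩ := exists_coords K Q
  obtain ⟨t, ht, hta, htb, hlin⟩ : ∃ t : MvPolynomial (Fin (n + 1)) Z₀, t ∈ CohB1.polyGrading n Z₀ 1 ∧
      evalAt a t ≠ 0 ∧ evalAt b t ≠ 0 ∧ ∀ A B : Fin (n + 1) → K,
        evalAt (fun m => Polynomial.C (A m) + Polynomial.X * (Polynomial.C (B m) - Polynomial.C (A m))) t =
          Polynomial.C (evalAt A t) + Polynomial.X * (Polynomial.C (evalAt B t) - Polynomial.C (evalAt A t)) := by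
    by_cases haj : a j = 0
    · by_cases hbi : b i = 0
      · refine ⟨MvPolynomial.X i + MvPolynomial.X j, add_mem (X₁ Z₀ n i).2 (X₁ Z₀ n j).2, ?_, ?_, fun A B => ?_⟩
        · simp [haj, hai]
        · simp [hbi, hbj]
        · simp only [map_add, MvPolynomial.eval₂Hom_X']; ring
      · exact ⟨MvPolynomial.X i, (X₁ Z₀ n i).2, by simpa using hai, by simpa using hbi, fun A B => by simp⟩
    · exact ⟨MvPolynomial.X j, (X₁ Z₀ n j).2, by simpa using haj, by simpa using hbj, fun A B => by simp⟩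
  rw [PnConst7.point_indep _ _ t _ one_pos hua ht one_pos (isUnit_iff_ne_zero.mpr hta),
    PnConst7.point_indep _ _ t _ one_pos hub ht one_pos (isUnit_iff_ne_zero.mpr htb)]
  let α := (evalAt a t)⁻¹
  let β := (evalAt b t)⁻¹
  have hA : evalAt (fun m => α * a m) t = 1 := by
    rw [eval_smul (cst K) α a ht, pow_one]; exact inv_mul_cancel₀ hta
  have hB : evalAt (fun m => β * b m) t = 1 := by
    rw [eval_smul (cst K) β b ht, pow_one]; exact inv_mul_cancel₀ htb
  let v : Fin (n + 1) → Polynomial K := fun m =>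
    Polynomial.C (α * a m) + Polynomial.X * (Polynomial.C (β * b m) - Polynomial.C (α * a m))
  have hcomp : ∀ s : K, (Polynomial.evalRingHom s).comp (evalAt v) =
      evalAt (fun m => α * a m + s * (β * b m - α * a m)) := fun s => by
    refine MvPolynomial.ringHom_ext (fun r => ?_) fun m => ?_
    · rw [RingHom.comp_apply, MvPolynomial.eval₂Hom_C, MvPolynomial.eval₂Hom_C, ← RingHom.comp_apply,
        hom_eq ((Polynomial.evalRingHom s).comp (cst _))]
    · simp [v]
  have hv : evalAt v t = 1 := by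
    rw [hlin, hA, hB, map_one, sub_self, mul_zero, add_zero]
  refine ⟨PnConst7.point (evalAt v) t ht one_pos (hv ▸ isUnit_one), ?_, ?_⟩
  · rw [H98P1.linePt, PnConst7.specMap_point]
    rw [PnConst7.point_congr (hcomp 0)]
    simp only [zero_mul, add_zero]
    exact point_smul a α (isUnit_iff_ne_zero.mpr (inv_ne_zero hta)) t ht one_pos _ _
  · rw [H98P1.linePt, PnConst7.specMap_point]
    rw [PnConst7.point_congr (hcomp 1)]
    simp only [one_mul, add_sub_cancel]
    exact point_smul b β (isUnit_iff_ne_zero.mpr (inv_ne_zero htb)) t ht one_pos _ _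

theorem elemLink {k : Type u} [Field k] (V : (CohB1.ProjSpaceOver n (Spec (CommRingCat.of k))).Opens)
    (K : Type u) [Field K] [Algebra k K]
    (A B : REq.Pts (V.ι ≫ CohB1.ProjSpaceOver.toBase n (Spec (CommRingCat.of k))) K) :
    REq.ElemLink (V.ι ≫ CohB1.ProjSpaceOver.toBase n (Spec (CommRingCat.of k))) K A B := by
  obtain ⟨M, hM0, hM1⟩ := exists_line (n := n) K (A.1 ≫ V.ι ≫ pullback.fst _ _) (B.1 ≫ V.ι ≫ pullback.fst _ _)
  let C : Spec (CommRingCat.of (Polynomial K)) ⟶ Spec (CommRingCat.of K) :=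
    Spec.map (CommRingCat.ofHom (Polynomial.C : K →+* Polynomial K))
  let L : Spec (CommRingCat.of (Polynomial K)) ⟶ CohB1.ProjSpaceOver n (Spec (CommRingCat.of k)) :=
    pullback.lift M (C ≫ REq.specMap k K) (specULiftZIsTerminal.hom_ext _ _)
  have hL : L ≫ CohB1.ProjSpaceOver.toBase n (Spec (CommRingCat.of k)) = C ≫ REq.specMap k K :=
    pullback.lift_snd _ _ _
  have hpt : ∀ (t : K) (R : REq.Pts (V.ι ≫ CohB1.ProjSpaceOver.toBase n (Spec (CommRingCat.of k))) K),
      H98P1.linePt K t ≫ M = R.1 ≫ V.ι ≫ pullback.fst _ _ → H98P1.linePt K t ≫ L = R.1 ≫ V.ι := by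
    intro t R hR
    apply pullback.hom_ext
    · rw [Category.assoc, pullback.lift_fst, hR, Category.assoc]
    · refine ((Category.assoc _ _ _).trans (congrArg (H98P1.linePt K t ≫ ·) hL)).trans ?_
      rw [reassoc_of% (H98P1.linePt_C K t)]
      exact R.2.symm.trans (Category.assoc _ _ _).symm
  let W := L ⁻¹ᵁ V
  let c : W.toScheme ⟶ REq.P1K K := W.ι ≫ H98P1.chart K 0
  let e : W.toScheme ≅ c.opensRange.toScheme := c.isoOpensRange
  have he : e.hom ≫ c.opensRange.ι = c := c.isoOpensRange_hom_ι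
  have hc : c ≫ REq.P1K.toSpec K = W.ι ≫ C := by
    rw [Category.assoc]
    exact congrArg (W.ι ≫ ·) (H98P1.chart_toBase K 0)
  have hlift : ∀ (t : K) (R : REq.Pts (V.ι ≫ CohB1.ProjSpaceOver.toBase n (Spec (CommRingCat.of k))) K),
      H98P1.linePt K t ≫ M = R.1 ≫ V.ι ≫ pullback.fst _ _ →
      ∃ s : Spec (CommRingCat.of K) ⟶ W.toScheme,
        s ≫ W.ι = H98P1.linePt K t ∧ s ≫ L.resLE V W le_rfl = R.1 := by
    intro t R hR
    have ht := hpt t R hR
    have hr : Set.range (H98P1.linePt K t) ⊆ Set.range W.ι := by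
      rintro _ ⟨z, rfl⟩
      rw [Scheme.Opens.range_ι]
      show L (H98P1.linePt K t z) ∈ V
      rw [← Scheme.Hom.comp_apply, ht, Scheme.Hom.comp_apply]
      exact (R.1 z).2
    refine ⟨IsOpenImmersion.lift W.ι (H98P1.linePt K t) hr, IsOpenImmersion.lift_fac _ _ _, ?_⟩
    rw [← cancel_mono V.ι, Category.assoc, Scheme.Hom.resLE_comp_ι,
      IsOpenImmersion.lift_fac_assoc, ht]
  obtain ⟨s0, hs0, hs0'⟩ := hlift 0 A hM0
  obtain ⟨s1, hs1, hs1'⟩ := hlift 1 B hM1
  refine ⟨c.opensRange, e.inv ≫ L.resLE V W le_rfl, s0 ≫ e.hom, s1 ≫ e.hom, ?_, ?_, ?_, ?_, ?_⟩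
  · rw [← cancel_epi e.hom]
    simp only [Category.assoc, Iso.hom_inv_id_assoc, Scheme.Hom.resLE_comp_ι_assoc, reassoc_of% he]
    rw [reassoc_of% hc, hL]
  · rw [Category.assoc, reassoc_of% he, hc, reassoc_of% hs0, H98P1.linePt_C]
  · rw [Category.assoc, reassoc_of% he, hc, reassoc_of% hs1, H98P1.linePt_C]
  · rw [Category.assoc, Iso.hom_inv_id_assoc, hs0']
  · rw [Category.assoc, Iso.hom_inv_id_assoc, hs1']

end Groth.Agent.REqLine99
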